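import Mathlib

/-!
# Spreading out morphisms to a target locally of finite presentation (no germ injectivity)
-/

set_option autoImplicit false
universe u

namespace Groth.Agent.Lib.Helper6.SpreadFP

open AlgebraicGeometry CategoryTheory TopologicalSpace Opposite

variable {X : Scheme.{u}} {R A : CommRingCat.{u}}

/-- Lifting a map from a finitely presented algebra to the stalk to sections over a
neighbourhood. -/
theorem exists_lift_of_finitePresentation {U : X.Opens} {x : X} (hxU : x ∈ U)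
    (φ : A ⟶ X.presheaf.stalk x) (φRA : R ⟶ A) (φRX : R ⟶ Γ(X, U))
    (hφRA : RingHom.FinitePresentation φRA.hom)
    (e : φRA ≫ φ = φRX ≫ X.presheaf.germ U x hxU) :
    ∃ (V : X.Opens) (hxV : x ∈ V) (φ' : A ⟶ Γ(X, V)) (i : V ≤ U), IsAffineOpen V ∧
      φ = φ' ≫ X.presheaf.germ V x hxV ∧ φRX ≫ X.presheaf.map i.hom.op = φRA ≫ φ' := by
  classical
  let _ : Algebra R A := φRA.hom.toAlgebra
  have hfp : Algebra.FinitePresentation R A := hφRA
  obtain ⟨n, f, hf, T, hT⟩ := hfp.out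
  -- sections representing the images of the variables
  choose W hxW s hs using fun i : Fin n =>
    X.presheaf.exists_germ_eq (φ (f (MvPolynomial.X i)))
  let V₀ : X.Opens := (Finset.univ.inf W) ⊓ U
  have hxV₀ : x ∈ V₀ := by
    rw [← SetLike.mem_coe, TopologicalSpace.Opens.coe_inf, TopologicalSpace.Opens.coe_finset_inf]
    exact ⟨by simpa using fun i => hxW i, hxU⟩
  have hV₀U : V₀ ≤ U := inf_le_right
  have hV₀W : ∀ i, V₀ ≤ W i := fun i => inf_le_left.trans (Finset.inf_le (Finset.mem_univ i))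
  -- the `R`-algebra structure on sections
  let ρ₀ : R →+* Γ(X, V₀) := (X.presheaf.map (homOfLE hV₀U).op).hom.comp φRX.hom
  let g₀ : MvPolynomial (Fin n) R →+* Γ(X, V₀) :=
    MvPolynomial.eval₂Hom ρ₀ (fun i => X.presheaf.map (homOfLE (hV₀W i)).op (s i))
  have hgerm : ∀ p, X.presheaf.germ V₀ x hxV₀ (g₀ p) = φ (f p) := by
    have : (X.presheaf.germ V₀ x hxV₀).hom.comp g₀ = φ.hom.comp f.toRingHom := by
      apply MvPolynomial.ringHom_ext
      · intro r
        show X.presheaf.germ V₀ x hxV₀ (g₀ (MvPolynomial.C r)) = φ (f (MvPolynomial.C r))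
        have h1 : g₀ (MvPolynomial.C r) = ρ₀ r := MvPolynomial.eval₂Hom_C _ _ _
        have h2 : f (MvPolynomial.C r) = φRA r := by
          rw [← MvPolynomial.algebraMap_eq, f.commutes]; rfl
        rw [h1, h2]
        show X.presheaf.germ V₀ x hxV₀ (X.presheaf.map (homOfLE hV₀U).op (φRX r)) = _
        rw [TopCat.Presheaf.germ_res_apply]
        exact (congrArg (fun m => m.hom r) e).symm
      · intro i
        show X.presheaf.germ V₀ x hxV₀ (g₀ (MvPolynomial.X i)) = φ (f (MvPolynomial.X i))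
        have h1 : g₀ (MvPolynomial.X i) = X.presheaf.map (homOfLE (hV₀W i)).op (s i) :=
          MvPolynomial.eval₂Hom_X' _ _ _
        rw [h1, TopCat.Presheaf.germ_res_apply]
        exact hs i
    intro p
    exact congrArg (fun m => m p) this
  -- the relations vanish on smaller neighbourhoods
  have hrel : ∀ t : T, ∃ (V' : X.Opens) (_ : x ∈ V') (hle : V' ≤ V₀),
      X.presheaf.map (homOfLE hle).op (g₀ t.1) = 0 := by
    intro t
    have ht : f t.1 = 0 := by
      have : t.1 ∈ RingHom.ker f.toRingHom := by rw [← hT]; exact Ideal.subset_span t.2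
      exact this
    have h0 : X.presheaf.germ V₀ x hxV₀ (g₀ t.1) = X.presheaf.germ V₀ x hxV₀ 0 := by
      rw [hgerm, ht, map_zero, map_zero]
    obtain ⟨V', hxV', iU, iV, h⟩ := X.presheaf.germ_eq x hxV₀ hxV₀ _ _ h0
    refine ⟨V', hxV', iU.le, ?_⟩
    rw [map_zero] at h
    exact h
  choose V' hxV' hV'le hV'0 using hrel
  let V₁ : X.Opens := (T.attach.inf V') ⊓ V₀
  have hxV₁ : x ∈ V₁ := by
    rw [← SetLike.mem_coe, TopologicalSpace.Opens.coe_inf, TopologicalSpace.Opens.coe_finset_inf]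
    exact ⟨by simpa using fun t ht => hxV' ⟨t, ht⟩, hxV₀⟩
  obtain ⟨_, ⟨V, hV, rfl⟩, hxV, hVV₁⟩ :=
    X.isBasis_affineOpens.exists_subset_of_mem_open hxV₁ V₁.2
  have hVV₁' : V ≤ V₁ := hVV₁
  have hVV₀ : V ≤ V₀ := hVV₁'.trans inf_le_right
  have hVV' : ∀ t : T, V ≤ V' t :=
    fun t => hVV₁'.trans (inf_le_left.trans (Finset.inf_le (Finset.mem_attach T t)))
  let g : MvPolynomial (Fin n) R →+* Γ(X, V) := (X.presheaf.map (homOfLE hVV₀).op).hom.comp g₀
  have hker : RingHom.ker f.toRingHom ≤ RingHom.ker g := by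
    rw [← hT, Ideal.span_le]
    intro t ht
    show g t = 0
    have h1 := hV'0 ⟨t, ht⟩
    have h2 : X.presheaf.map (homOfLE hVV₀).op (g₀ t) =
        X.presheaf.map (homOfLE (hVV' ⟨t, ht⟩)).op
          (X.presheaf.map (homOfLE (hV'le ⟨t, ht⟩)).op (g₀ t)) := by
      rw [← CommRingCat.comp_apply, ← X.presheaf.map_comp]
      rfl
    show X.presheaf.map (homOfLE hVV₀).op (g₀ t) = 0
    rw [h2, h1, map_zero]
  let φ'₀ : A →+* Γ(X, V) := RingHom.liftOfSurjective f.toRingHom hf ⟨g, hker⟩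
  have hφ'₀ : ∀ p, φ'₀ (f p) = g p := fun p =>
    RingHom.liftOfRightInverse_comp_apply f.toRingHom _ _ ⟨g, hker⟩ p
  refine ⟨V, hxV, CommRingCat.ofHom φ'₀, hVV₀.trans hV₀U, hV, ?_, ?_⟩
  · ext a
    obtain ⟨p, rfl⟩ := hf a
    show φ (f p) = X.presheaf.germ V x hxV (φ'₀ (f p))
    rw [hφ'₀]
    show _ = X.presheaf.germ V x hxV (X.presheaf.map (homOfLE hVV₀).op (g₀ p))
    rw [TopCat.Presheaf.germ_res_apply, hgerm]
  · ext r
    show X.presheaf.map (homOfLE (hVV₀.trans hV₀U)).op (φRX r) = φ'₀ (φRA r)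
    have h2 : (φRA r : A) = f (MvPolynomial.C r) := by
      rw [← MvPolynomial.algebraMap_eq, f.commutes]; rfl
    rw [h2, hφ'₀]
    show _ = X.presheaf.map (homOfLE hVV₀).op (g₀ (MvPolynomial.C r))
    have h1 : g₀ (MvPolynomial.C r) = ρ₀ r := MvPolynomial.eval₂Hom_C _ _ _
    rw [h1]
    have h3 : X.presheaf.map (homOfLE hVV₀).op (X.presheaf.map (homOfLE hV₀U).op (φRX r)) =
        X.presheaf.map (homOfLE (hVV₀.trans hV₀U)).op (φRX r) := by
      rw [← CommRingCat.comp_apply, ← X.presheaf.map_comp]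
      rfl
    show _ = X.presheaf.map (homOfLE hVV₀).op (X.presheaf.map (homOfLE hV₀U).op (φRX r))
    rw [h3]

end Groth.Agent.Lib.Helper6.SpreadFP
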